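import Groth.Agent.Fano.K239.HonDef2
import Groth.Agent.Fano.K11.UnivStab
import Groth.Agent.Fano.K423.ConE
import Groth.Agent.Fano.K188.LinP1
import Groth.Agent.Lefpen.H717.ProjIrr
import Mathlib.AlgebraicGeometry.AlgClosed.Basic

/-!
# The chart of maps from the projective line: stability of `O(e)`, and the points of the chart

* `oeStab` (node HE1): `O(e)` on the projective line has no section generating everywhere if `1 ≤ e`;
* `aff_pmap`, `inf_pmap`: base change of the sections `[1 : b]`, `[0 : 1]`;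
* `exists_pt_coord`: closed points of the projective line over an algebraically closed field have coordinates;
* `exists_family` (node HP): distinct points and a vector of binary forms without common zero, at which `G` vanishes, are the
  datum of a stable map.
-/

set_option autoImplicit false

universe u

open CategoryTheory CategoryTheory.Limits AlgebraicGeometry TopologicalSpace

namespace K351.HonP

open K390.PnSec Groth.Agent.Fdesc.LocGen Groth.Agent.Dix.ProjProper
open Groth.Agent.Ega2.H295.PnUniq Groth.Agent.Ega2.H295.PnCoord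
open K188.LineDef K188.LinFun K745.ConDef K505.KonDef K239.HonDef W4swstmapratcurves K837.StPull K11.UnivKit K11.UnivStab

/-! ## The fibres of the projective line -/

section Fibre

variable {T : Scheme.{u}} {Ω : Type u} [Field Ω]

theorem isIntegral_P1 : IsIntegral (P1 (Spec (CommRingCat.of Ω))) := by
  obtain ⟨ε, -, -, -⟩ := K188.LinP1.exists_iso_P1 Ω
  have : IsIntegral (CohB1.ProjSpace 1 Ω) := Groth.Agent.Lefpen.H717.ProjIrr.isIntegral_projSpace 1 Ω
  exact IsIntegral.of_isIso ε.hom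

/-- The geometric fibres of the projective line are integral. -/
theorem isIntegral_fibre {t : Spec (CommRingCat.of Ω) ⟶ T} {Xt : Scheme.{u}}
    {i : Xt ⟶ P1 T} {q : Xt ⟶ Spec (CommRingCat.of Ω)} (hP : IsPullback i q (pr T) t) : IsIntegral Xt := by
  have h1 : IsIntegral (P1 (Spec (CommRingCat.of Ω))) := isIntegral_P1
  let ι : Xt ≅ P1 (Spec (CommRingCat.of Ω)) := hP.isoIsPullback _ _ (isPullback_pmap t)
  exact IsIntegral.of_isIso ι.inv

end Fibre

variable {k : Type u} [Field k] {n d r e : ℕ} {G : LefPen.Form n k d}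

theorem oeStab' {T : Scheme.{u}} {q : T ⟶ Spec (CommRingCat.of k)} (he : 1 ≤ e) (o : Oe G q e) : OeStab o := by
  rintro Ω _ _ t Xt i q hP E hE ⟨s, hs⟩
  have hirr : IsIntegral Xt := isIntegral_fibre hP
  have hE' : E = Set.univ := by
    have h1 := hE.1
    rw [irreducibleComponents_eq_singleton] at h1
    exact h1
  subst hE'
  have h7 := o.deg Ω t Xt i q hP
  let _ : Xt.Over (Spec (CommRingCat.of Ω)) := ⟨q⟩
  have h8 : Curv2.deg Ω Xt ((Scheme.Modules.pullback i).obj o.L) 1 = 0 := deg_eq_zero hs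
  have h9 : (e : ℤ) = 0 := h7.symm.trans h8
  omega

/-- Node HE1: a line bundle of positive degree on the projective line has no section generating everywhere. -/
theorem oeStab (he : 1 ≤ e) (o : Oe G (QO k r).hom e) : OeStab o := oeStab' he o

/-! ## Sections of the projective line and base change -/

section Sections

variable {T T' : Scheme.{u}}

theorem aff_pmap (g : T' ⟶ T) (b : Γ(T, ⊤)) : aff (g.appTop b) ≫ pmap g = g ≫ aff b := by
  refine hom_ext_over ?_ ?_
  · rw [Category.assoc, pmap_toZ, Category.assoc]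
    have h1 := givenBy_ofFun_comp (givenBy_aff b) g
    have h2 : (fun a => (ofFun (g.appTop ((![1, b] : Fin 2 → Γ(T, ⊤)) a)) : Γ(Coh.structureModule T', ⊤))) =
        fun a => ofFun ((![1, g.appTop b] : Fin 2 → Γ(T', ⊤)) a) := by
      funext a
      congr 1
      fin_cases a
      · exact map_one _
      · rfl
    exact (givenBy_aff (g.appTop b)).unique' (h2 ▸ h1)
  · rw [Category.assoc, pmap_pr, Category.assoc]
    exact (congrArg (· ≫ g) (aff_pr _)).trans ((Category.id_comp g).trans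
      ((Category.comp_id g).symm.trans (congrArg (g ≫ ·) (aff_pr b).symm)))

theorem inf_pmap (g : T' ⟶ T) : inf T' ≫ pmap g = g ≫ inf T := by
  refine hom_ext_over ?_ ?_
  · rw [Category.assoc, pmap_toZ, Category.assoc]
    have h1 := givenBy_ofFun_comp (givenBy_inf (T := T)) g
    have h2 : (fun a => (ofFun (g.appTop ((![0, 1] : Fin 2 → Γ(T, ⊤)) a)) : Γ(Coh.structureModule T', ⊤))) =
        fun a => ofFun ((![0, 1] : Fin 2 → Γ(T', ⊤)) a) := by
      funext a
      congr 1
      fin_cases a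
      · exact map_zero _
      · exact map_one _
    exact (givenBy_inf (T := T')).unique' (h2 ▸ h1)
  · rw [Category.assoc, pmap_pr, Category.assoc]
    exact (congrArg (· ≫ g) inf_pr).trans ((Category.id_comp g).trans
      ((Category.comp_id g).symm.trans (congrArg (g ≫ ·) inf_pr.symm)))

theorem std3_pmap (g : T' ⟶ T) (i : Fin 3) : std3 T' i ≫ pmap g = g ≫ std3 T i := by
  fin_cases i
  · have h := aff_pmap g (0 : Γ(T, ⊤))
    rw [map_zero] at h
    exact h
  · have h := aff_pmap g (1 : Γ(T, ⊤))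
    rw [map_one] at h
    exact h
  · exact inf_pmap g

end Sections

/-! ## Generation on the projective line over an algebraically closed field -/

/-- The value `Σ_j φ_{l,j} s^(e-j) t^j`. -/
def vl {A : Type u} [CommRing A] (φ : Fin (n + 1) → Fin (e + 1) → A) (l : Fin (n + 1)) (s t : A) : A :=
  ∑ j, φ l j * (s ^ (e - (j : ℕ)) * t ^ (j : ℕ))

section Points

variable {Ω : Type u} [Field Ω]

/-- An invertible module on the spectrum of a field has a generator. -/
theorem exists_isGen (M : (Spec (CommRingCat.of Ω)).Modules) (hM : PicF.IsInvertible M) :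
    ∃ e : Γ(M, ⊤), IsGen e := by
  obtain ⟨U, e, hx, he⟩ := (isInvertible_iff M).mp hM (IsLocalRing.closedPoint Ω)
  have hU : U = ⊤ := by
    rw [eq_top_iff]
    intro y _
    have : y = IsLocalRing.closedPoint Ω := Subsingleton.elim _ _
    rw [this]
    exact hx
  subst hU
  exact ⟨e, he⟩

theorem isInvertible_structureModule (X : Scheme.{u}) : PicF.IsInvertible (Coh.structureModule X) := by
  rw [isInvertible_iff]
  exact fun x => ⟨⊤, one ⊤, trivial, isGen_one ⊤⟩

/-- A point of projective space with values in a field has homogeneous coordinates. -/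
theorem exists_coord {m : ℕ} {R : Type u} [CommRing R] (r : Spec (CommRingCat.of Ω) ⟶ CohB1.ProjSpace m R) :
    ∃ x : Fin (m + 1) → Γ(Spec (CommRingCat.of Ω), ⊤), (∃ a, x a ≠ 0) ∧
      GivenBy r (Coh.structureModule _) (fun a => ofFun (x a)) := by
  obtain ⟨e, he⟩ := exists_isGen ((Scheme.Modules.pullback r).obj (O1 m R)) (isInvertible_pullback r (isInvertible_O1 m R))
  obtain ⟨τ, -⟩ := exists_iso_of_isGen he
  have h1 := (GivenBy.refl r).of_iso τ
  let x : Fin (m + 1) → Γ(Spec (CommRingCat.of Ω), ⊤) := fun a => ofFun.symm (τ.hom.app ⊤ (tsec r a))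
  have h2 : GivenBy r (Coh.structureModule _) (fun a => ofFun (x a)) := by
    have h3 : (fun a => ofFun (x a)) = fun a => τ.hom.app ⊤ (tsec r a) :=
      funext fun a => ofFun.apply_symm_apply _
    rw [h3]
    exact h1
  refine ⟨x, ?_, h2⟩
  by_contra hcon
  push Not at hcon
  have h4 := h2.iSup_genLocus.ge (show IsLocalRing.closedPoint Ω ∈ (⊤ : (Spec (CommRingCat.of Ω)).Opens) from trivial)
  rw [Opens.mem_iSup] at h4
  obtain ⟨a, ha⟩ := h4
  rw [hcon a, map_zero] at ha
  exact K188.LinP1.notMem_gl_zero (isInvertible_structureModule _) _ ha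

/-- On a scheme of finite type over an algebraically closed field, sections generate if they do at all rational points. -/
theorem iSup_genLocus_eq_top [IsAlgClosed Ω] {X : Scheme.{u}} [CompactSpace X] (f : X ⟶ Spec (CommRingCat.of Ω))
    [LocallyOfFiniteType f] {m : ℕ} {M : X.Modules} (s : Fin m → Γ(M, ⊤))
    (h : ∀ ψ : Spec (CommRingCat.of Ω) ⟶ X, ψ ≫ f = 𝟙 _ → ψ (IsLocalRing.closedPoint Ω) ∈ ⨆ l, CohB1.genLocus M (homOf (s l))) :
    ⨆ l, CohB1.genLocus M (homOf (s l)) = ⊤ := by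
  by_contra hcon
  have hne : (((⨆ l, CohB1.genLocus M (homOf (s l)) : X.Opens) : Set X)ᶜ).Nonempty := by
    rw [Set.nonempty_compl]
    intro h1
    exact hcon (Opens.ext h1)
  obtain ⟨x, hx, hx'⟩ := IsClosed.exists_closed_singleton (⨆ l, CohB1.genLocus M (homOf (s l)) : X.Opens).isOpen.isClosed_compl hne
  have h2 := h (pointOfClosedPoint f x hx') (pointOfClosedPoint_comp f x hx')
  rw [pointOfClosedPoint_apply] at h2
  exact hx h2

theorem lc_ofFun {X : Scheme.{u}} {T : Scheme.{u}} (f : X ⟶ T) (y : Fin (e + 1) → Γ(X, ⊤))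
    (φ : Fin (n + 1) → Fin (e + 1) → Γ(T, ⊤)) (l : Fin (n + 1)) :
    lc f (fun j => (ofFun (y j) : Γ(Coh.structureModule X, ⊤))) φ l = ofFun (∑ j, f.appTop (φ l j) * y j) := by
  unfold lc
  rw [map_sum]
  refine Finset.sum_congr rfl fun j _ => ?_
  change f.appTop (φ l j) • ofFun (y j) = _
  rw [ofFun_eq_smul, ofFun_eq_smul, smul_smul]

theorem isGen_ofFun {X : Scheme.{u}} {a : Γ(X, ⊤)} (ha : IsUnit a) : IsGen (ofFun a : Γ(Coh.structureModule X, ⊤)) := by
  rw [ofFun_eq_smul]
  exact (isGen_one ⊤).unit_smul ha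

/-- The sections of `O(e)` given by binary forms without common zero generate. -/
theorem iSup_genLocus_lc [IsAlgClosed Ω] {T : Scheme.{u}} {q : T ⟶ Spec (CommRingCat.of k)} (o : Oe G q e)
    (g : Spec (CommRingCat.of Ω) ⟶ T) (φ : Fin (n + 1) → Fin (e + 1) → Γ(Spec (CommRingCat.of Ω), ⊤))
    (h : ∀ x : Fin 2 → Γ(Spec (CommRingCat.of Ω), ⊤), (∃ a, x a ≠ 0) → ∃ l, vl φ l (x 0) (x 1) ≠ 0) :
    ⨆ l, CohB1.genLocus _ (homOf (lc (pr _) (fun j => pullTop (pmap g) (o.ε j)) φ l)) = ⊤ := by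
  have hpr : IsProper (pr (Spec (CommRingCat.of Ω))) := inferInstance
  have hc : CompactSpace (P1 (Spec (CommRingCat.of Ω))) := by
    exact QuasiCompact.compactSpace_of_compactSpace (pr (Spec (CommRingCat.of Ω)))
  refine iSup_genLocus_eq_top (pr _) _ fun ψ hψ => ?_
  obtain ⟨x, hx, hx'⟩ := exists_coord (ψ ≫ toZ 1 (Spec (CommRingCat.of Ω)))
  have h1 : GivenBy ((ψ ≫ pmap g) ≫ toZ 1 T) (Coh.structureModule _) (fun a => ofFun (x a)) := by
    rw [Category.assoc, pmap_toZ]
    exact hx'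
  have h2 : Pb (ψ ≫ pmap g) o.ε (fun j => (ofFun (x 0 ^ (e - (j : ℕ)) * x 1 ^ (j : ℕ)) :
    Γ(Coh.structureModule (Spec (CommRingCat.of Ω)), ⊤))) := o.val (ψ ≫ pmap g) x h1
  have hw : ψ ≫ pr (Spec (CommRingCat.of Ω)) = 𝟙 _ ≫ 𝟙 _ := by rw [hψ, Category.comp_id]
  have h3 := pb_lc hw (Pb.of_comp h2) φ
  have h4 := iSup_genLocus_of_pb (isInvertible_pullback (pmap g) o.inv) h3
  obtain ⟨l, hl⟩ := h x hx
  have h5 : ∀ p : ↥(Spec (CommRingCat.of Ω)), p ∈ ⨆ l, CohB1.genLocus _ (homOf (lc (𝟙 (Spec (CommRingCat.of Ω)))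
      (fun j => (ofFun (x 0 ^ (e - (j : ℕ)) * x 1 ^ (j : ℕ)) : Γ(Coh.structureModule (Spec (CommRingCat.of Ω)), ⊤)))
      (fun l i => (𝟙 (Spec (CommRingCat.of Ω)) : Spec (CommRingCat.of Ω) ⟶ _).appTop (φ l i)) l)) := by
    intro p
    refine Opens.mem_iSup.2 ⟨l, ?_⟩
    rw [lc_ofFun]
    have h6 : (∑ j, (𝟙 (Spec (CommRingCat.of Ω)) : Spec (CommRingCat.of Ω) ⟶ _).appTop
        ((𝟙 (Spec (CommRingCat.of Ω)) : Spec (CommRingCat.of Ω) ⟶ _).appTop (φ l j)) *
          (x 0 ^ (e - (j : ℕ)) * x 1 ^ (j : ℕ))) = vl φ l (x 0) (x 1) := by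
      rw [Scheme.Hom.id_appTop]
      rfl
    rw [h6]
    have h7 : (⊤ : (Spec (CommRingCat.of Ω)).Opens) ≤ CohB1.genLocus _ (homOf (ofFun (vl φ l (x 0) (x 1)) :
        Γ(Coh.structureModule (Spec (CommRingCat.of Ω)), ⊤))) := by
      rw [le_genLocus_iff, sec_homOf, res_refl]
      exact isGen_ofFun ((K188.LinP1.isUnit_iff_ne_zero' _).2 hl)
    exact h7 trivial
  rw [h4] at h5
  exact h5 _

end Points

/-! ## Vanishing of the form -/

/-- If `G` vanishes at all values of the matrix `φ`, the equations vanish at `φ`. -/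
theorem eval₂_honP_eq_zero {Ω R : Type u} [Field Ω] [Infinite Ω] [CommRing R] (F : MvPolynomial (Fin (n + 1)) k) (d' : ℕ)
    (ρ : k →+* R) (τ : R →+* Ω) (φ : Fin (n + 1) → Fin (e + 1) → Ω)
    (hG : ∀ t : Ω, MvPolynomial.eval₂ (τ.comp ρ) (fun l => vl φ l 1 t) F = 0) (m : Fin (d' * e + 1)) :
    MvPolynomial.eval₂ τ (fun p => φ p.1 p.2) (honP ρ F d' e m) = 0 := by
  let ev : MvPolynomial (Fin (n + 1) × Fin (e + 1)) R →+* Ω := MvPolynomial.eval₂Hom τ (fun p => φ p.1 p.2)
  let P := MvPolynomial.eval₂ (Polynomial.C.comp (MvPolynomial.C.comp ρ)) (genPt R n e) F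
  have h1 : P.map ev = 0 := by
    refine Polynomial.funext fun t => ?_
    rw [Polynomial.eval_zero]
    let Φ : Polynomial (MvPolynomial (Fin (n + 1) × Fin (e + 1)) R) →+* Ω :=
      (Polynomial.evalRingHom t).comp (Polynomial.mapRingHom ev)
    change Φ P = 0
    rw [MvPolynomial.hom_eval₂]
    have e1 : Φ.comp (Polynomial.C.comp (MvPolynomial.C.comp ρ)) = τ.comp ρ := by
      ext a
      simp [Φ, ev]
    have e2 : (fun l => Φ (genPt R n e l)) = fun l => vl φ l 1 t := by
      funext l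
      rw [genPt, vl, map_sum]
      refine Finset.sum_congr rfl fun j _ => ?_
      simp [Φ, ev]
    rw [e1, e2]
    exact hG t
  change ev (P.coeff m) = 0
  rw [← Polynomial.coeff_map, h1, Polynomial.coeff_zero]

section Mor

variable {Ω : Type u} [Field Ω]

/-- The homomorphism of fields of a morphism of spectra. -/
noncomputable abbrev kΩ (q : Spec (CommRingCat.of Ω) ⟶ Spec (CommRingCat.of k)) : k →+* Ω :=
  (Scheme.ΓSpecIso (CommRingCat.of Ω)).hom.hom.comp (kmap q)

theorem map_kΩ (q : Spec (CommRingCat.of Ω) ⟶ Spec (CommRingCat.of k)) : Spec.map (CommRingCat.ofHom (kΩ q)) = q := by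
  have h1 : CommRingCat.ofHom (kΩ q) = Spec.preimage q := by
    have h2 : CommRingCat.ofHom (kΩ q) = (Scheme.ΓSpecIso (CommRingCat.of k)).inv ≫ (Spec.map (Spec.preimage q)).appTop ≫
        (Scheme.ΓSpecIso (CommRingCat.of Ω)).hom := by
      rw [Spec.map_preimage]
      rfl
    rw [h2, Scheme.ΓSpecIso_naturality, Iso.inv_hom_id_assoc]
  rw [h1, Spec.map_preimage]

/-- The functions on the spectrum of a field. -/
noncomputable abbrev γ : Ω →+* Γ(Spec (CommRingCat.of Ω), ⊤) := (Scheme.ΓSpecIso (CommRingCat.of Ω)).inv.hom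

theorem hom_γ (a : Ω) : (Scheme.ΓSpecIso (CommRingCat.of Ω)).hom (γ a) = a :=
  congr(($((Scheme.ΓSpecIso (CommRingCat.of Ω)).inv_hom_id)) a)

theorem γ_hom (a : Γ(Spec (CommRingCat.of Ω), ⊤)) : γ ((Scheme.ΓSpecIso (CommRingCat.of Ω)).hom a) = a :=
  congr(($((Scheme.ΓSpecIso (CommRingCat.of Ω)).hom_inv_id)) a)

theorem γ_ne_zero {a : Ω} (ha : a ≠ 0) : (γ a : Γ(Spec (CommRingCat.of Ω), ⊤)) ≠ 0 := by
  intro h
  apply ha
  rw [← hom_γ a, h, map_zero]

theorem isUnit_disc (ρ : k →+* Ω) (x : Fin r → Ω) (h0 : ∀ i, x i ≠ 0) (h1 : ∀ i, x i ≠ 1) (h2 : Function.Injective x) :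
    IsUnit (MvPolynomial.eval₂Hom ρ x (disc k r)) := by
  rw [isUnit_iff_ne_zero, disc, map_mul, map_prod, map_prod]
  refine mul_ne_zero (Finset.prod_ne_zero_iff.2 fun i _ => ?_) (Finset.prod_ne_zero_iff.2 fun p hp => ?_)
  · rw [map_mul, map_sub, map_one, MvPolynomial.coe_eval₂Hom, MvPolynomial.eval₂_X]
    exact mul_ne_zero (h0 i) (sub_ne_zero.2 (h1 i))
  · rw [map_sub, MvPolynomial.coe_eval₂Hom, MvPolynomial.eval₂_X, MvPolynomial.eval₂_X]
    exact sub_ne_zero.2 fun h => (Finset.mem_filter.1 hp).2 (h2 h)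

/-- The morphism to the scheme of tuples given by a tuple of distinct elements. -/
theorem exists_toQO (q : Spec (CommRingCat.of Ω) ⟶ Spec (CommRingCat.of k)) (x : Fin r → Ω) (h0 : ∀ i, x i ≠ 0)
    (h1 : ∀ i, x i ≠ 1) (h2 : Function.Injective x) :
    ∃ b : Over.mk q ⟶ QO k r, ∀ i, b.left.appTop (xF k r i) = (γ (x i) : Γ(Spec (CommRingCat.of Ω), ⊤)) := by
  let β : QR k r →+* Ω := IsLocalization.Away.lift (S := QR k r) (disc k r) (isUnit_disc (kΩ q) x h0 h1 h2)
  have hβ : ∀ p, β (algebraMap (MvPolynomial (Fin r) k) (QR k r) p) = MvPolynomial.eval₂Hom (kΩ q) x p := fun p =>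
    IsLocalization.Away.lift_eq (S := QR k r) (disc k r) (isUnit_disc (kΩ q) x h0 h1 h2) p
  refine ⟨Over.homMk (Spec.map (CommRingCat.ofHom β)) ?_, fun i => ?_⟩
  · change Spec.map (CommRingCat.ofHom β) ≫ Spec.map (CommRingCat.ofHom (algebraMap k (QR k r))) = q
    rw [← Spec.map_comp, ← CommRingCat.ofHom_comp]
    have h3 : β.comp (algebraMap k (QR k r)) = kΩ q := by
      ext a
      rw [RingHom.comp_apply, IsScalarTower.algebraMap_apply k (MvPolynomial (Fin r) k) (QR k r), hβ,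
        MvPolynomial.algebraMap_eq, MvPolynomial.coe_eval₂Hom, MvPolynomial.eval₂_C]
    rw [h3, map_kΩ]
  · have h4 := congr(($(Scheme.ΓSpecIso_inv_naturality (CommRingCat.ofHom β))) (xU k r i))
    refine h4.symm.trans ?_
    change γ (β (xU k r i)) = _
    rw [xU, hβ, MvPolynomial.coe_eval₂Hom, MvPolynomial.eval₂_X]

end Mor

/-! ## The points of the chart -/

theorem map_vl {A B : Type u} [CommRing A] [CommRing B] (τ : A →+* B) (φ : Fin (n + 1) → Fin (e + 1) → A)
    (l : Fin (n + 1)) (s t : A) : τ (vl φ l s t) = vl (fun l j => τ (φ l j)) l (τ s) (τ t) := by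
  simp [vl]

theorem B0_sect_castAdd (i : Fin r) : (B0 k r).sect (Fin.castAdd 3 i) = aff (xF k r i) :=
  Fin.addCases_left (motive := fun _ => (QO k r).left ⟶ P1 (QO k r).left) (left := fun i => aff (xF k r i))
    (right := std3 (QO k r).left) i

theorem B0_sect_natAdd (i : Fin 3) : (B0 k r).sect (Fin.natAdd r i) = std3 (QO k r).left i :=
  Fin.addCases_right (motive := fun _ => (QO k r).left ⟶ P1 (QO k r).left) (left := fun i => aff (xF k r i))
    (right := std3 (QO k r).left) i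

variable {hi : IsPre (B0 k r)} {hp : ProdB0 k r} (o : Oe G (QO k r).hom e) (ho : OeStab o)

/-- The coordinates of the marked points in a datum. -/
noncomputable def xAt {Y : Fam G r} (D : Datum (l0 (hi := hi) (hp := hp) o ho) Y) (i : Fin r) : Γ(Y.base.left, ⊤) :=
  D.h.base.left.appTop (xF k r i)

/-- The form `G` vanishes at the sections of `O(e)` given by a matrix with values in an infinite field. -/
theorem van_lc {Ω : Type u} [Field Ω] [Infinite Ω] {q : Spec (CommRingCat.of Ω) ⟶ Spec (CommRingCat.of k)}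
    (b : Over.mk q ⟶ QO k r) (φ : Fin (n + 1) → Fin (e + 1) → Ω)
    (hG : ∀ t : Ω, MvPolynomial.eval₂ (kΩ q) (fun l => vl φ l 1 t) G.1 = 0) :
    Van (pr (Spec (CommRingCat.of Ω))) (lc (pr (Spec (CommRingCat.of Ω))) (fun j => pullTop (pmap b.left) (o.ε j))
      (fun l j => γ (φ l j))) (G.1.map (kmap q)) := by
  have h4 : b.left ≫ (QO k r).hom = q := Over.w b
  have h5 : kmap q = b.left.appTop.hom.comp (kmap (QO k r).hom) := by
    refine (congrArg kmap h4).symm.trans ?_
    unfold kmap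
    rw [Scheme.Hom.comp_appTop, CommRingCat.hom_comp]
    rfl
  have h3 := (o.van (pmap b.left) (pr (Spec (CommRingCat.of Ω))) b.left (isPullback_pmap b.left)
    (fun l j => γ (φ l j))).2 fun m => by
      have h6 := eval₂_honP_eq_zero (e := e) G.1 d (kmap (QO k r).hom)
        ((Scheme.ΓSpecIso (CommRingCat.of Ω)).hom.hom.comp b.left.appTop.hom) φ (fun t => by
          rw [RingHom.comp_assoc, ← h5]
          exact hG t) m
      have h7 := congrArg (γ (Ω := Ω)) h6
      rw [map_zero, MvPolynomial.hom_eval₂] at h7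
      have h8 : (γ (Ω := Ω)).comp ((Scheme.ΓSpecIso (CommRingCat.of Ω)).hom.hom.comp b.left.appTop.hom) =
          b.left.appTop.hom := by
        ext a
        exact γ_hom _
      rw [h8] at h7
      exact h7
  rw [h4] at h3
  exact h3

/-- Node HP: points of the chart: distinct points and a vector of binary forms without common zero, at which `G` vanishes. -/
theorem exists_family {Ω : Type u} [Field Ω] [IsAlgClosed Ω] (q : Spec (CommRingCat.of Ω) ⟶ Spec (CommRingCat.of k)) (he : 1 ≤ e)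
    (x : Fin r → Ω) (h0 : ∀ i, x i ≠ 0) (h1 : ∀ i, x i ≠ 1) (h2 : Function.Injective x)
    (φ : Fin (n + 1) → Fin (e + 1) → Ω) (hgen : ∀ s t : Ω, (s, t) ≠ 0 → ∃ l, vl φ l s t ≠ 0)
    (hG : ∀ s t : Ω, MvPolynomial.eval₂ ((Scheme.ΓSpecIso (CommRingCat.of Ω)).hom.hom.comp (kmap q)) (fun l => vl φ l s t) G.1 = 0) :
    ∃ (Y : (Mst G r e).obj) (hY : Y.obj.base = Over.mk q) (D : Datum (l0 (hi := hi) (hp := hp) o ho) Y.obj),
      (∀ i, (Scheme.ΓSpecIso (CommRingCat.of Ω)).hom ((eqToHom hY.symm).left.appTop (xAt o ho D i)) = x i) ∧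
      ∀ l j, (Scheme.ΓSpecIso (CommRingCat.of Ω)).hom ((eqToHom hY.symm).left.appTop (D.φ l j)) = φ l j := by
  have hinf : Infinite Ω := IsAlgClosed.instInfinite
  obtain ⟨b, hb⟩ := exists_toQO q x h0 h1 h2
  have hgen' : ∀ y : Fin 2 → Γ(Spec (CommRingCat.of Ω), ⊤), (∃ a, y a ≠ 0) →
      ∃ l, vl (fun l j => γ (φ l j)) l (y 0) (y 1) ≠ 0 := by
    rintro y ⟨a, ha⟩
    have hy : ((Scheme.ΓSpecIso (CommRingCat.of Ω)).hom (y 0), (Scheme.ΓSpecIso (CommRingCat.of Ω)).hom (y 1)) ≠ (0 : Ω × Ω) := by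
      intro h3
      rw [Prod.mk_eq_zero] at h3
      apply ha
      rw [← γ_hom (y a)]
      fin_cases a
      · exact (congrArg γ h3.1).trans (map_zero _)
      · exact (congrArg γ h3.2).trans (map_zero _)
    obtain ⟨l, hl⟩ := hgen _ _ hy
    refine ⟨l, ?_⟩
    have h3 := map_vl (γ (Ω := Ω)) φ l ((Scheme.ΓSpecIso (CommRingCat.of Ω)).hom (y 0)) ((Scheme.ΓSpecIso (CommRingCat.of Ω)).hom (y 1))
    rw [γ_hom, γ_hom] at h3
    rw [← h3]
    exact γ_ne_zero hl
  obtain ⟨μ, hμ1, hμ2⟩ := exists_givenBy (R := k) (pr (Spec (CommRingCat.of Ω)) ≫ q) _ (iSup_genLocus_lc o b.left _ hgen')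
  obtain ⟨m, hm⟩ := (K423.ConE.exists_lift_iff_van (pr (Spec (CommRingCat.of Ω))) q μ hμ1 _ hμ2 G).2
    (van_lc o b φ fun t => hG 1 t)
  let A : Fam G r :=
    { base := Over.mk q
      C := P1 (Spec (CommRingCat.of Ω))
      f := pr (Spec (CommRingCat.of Ω))
      sect := fun i => aff (γ (x i))
      sect_f := fun i => aff_pr _
      map := m
      map_over := by
        change m ≫ (LefPen.hypIdeal G).subschemeι ≫ CohB1.ProjSpace.toSpec n k = pr (Spec (CommRingCat.of Ω)) ≫ q
        rw [← Category.assoc, hm, hμ1] }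
  let D : Datum (l0 (hi := hi) (hp := hp) o ho) A :=
    mkDatum A (std3 (Spec (CommRingCat.of Ω))) std3_pr (pmap b.left) b (isPullback_pmap b.left)
      (fun i => by
        change aff (γ (x i)) ≫ pmap b.left = b.left ≫ (B0 k r).sect (Fin.castAdd 3 i)
        rw [B0_sect_castAdd, ← hb]
        exact aff_pmap b.left (xF k r i))
      (fun i => by
        change std3 (Spec (CommRingCat.of Ω)) i ≫ pmap b.left = b.left ≫ (B0 k r).sect (Fin.natAdd r i)
        rw [B0_sect_natAdd]
        exact std3_pmap b.left i)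
      (fun l j => γ (φ l j))
      (by
        change GivenBy (m ≫ (LefPen.hypIdeal G).subschemeι) ((Scheme.Modules.pullback (pmap b.left)).obj o.L)
          (lc (pr (Spec (CommRingCat.of Ω))) (fun j => pullTop (pmap b.left) (o.ε j)) (fun l j => γ (φ l j)))
        rw [hm]
        exact hμ2)
  refine ⟨⟨A, mem_mst he D⟩, rfl, D, fun i => ?_, fun l j => ?_⟩
  · change (Scheme.ΓSpecIso (CommRingCat.of Ω)).hom ((𝟙 (Spec (CommRingCat.of Ω)) : Spec (CommRingCat.of Ω) ⟶ _).appTop
      (b.left.appTop (xF k r i))) = x i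
    rw [hb, Scheme.Hom.id_appTop]
    exact hom_γ (x i)
  · change (Scheme.ΓSpecIso (CommRingCat.of Ω)).hom ((𝟙 (Spec (CommRingCat.of Ω)) : Spec (CommRingCat.of Ω) ⟶ _).appTop
      (γ (φ l j))) = φ l j
    rw [Scheme.Hom.id_appTop]
    exact hom_γ (φ l j)

end K351.HonP
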